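import Cfsg.Agent.OddChar.TypeP.Noncoherent.Basic
import Cfsg.Agent.OddChar.TypeP.SibleyPrime
import Cfsg.Agent.OddChar.Coherence.TI

/-!
# `calS M` is coherent when `M_s = M'` is a nilpotent trivial intersection set
-/

set_option autoImplicit false
set_option linter.unusedSectionVars false
set_option linter.style.haveILetI false

namespace Cfsg.Agent.OddChar.TypeP.NoTypeV

open Cfsg Subgroup
open Cfsg.Agent.Characters Cfsg.Agent.OddChar.TypeP.Noncoherent

universe u

variable {G : Type u} [Group G] [Fintype G] {M W₁ U W₂ : Subgroup G} [Fintype M]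
  {η : (↥(W₁ ⊔ W₂) →* ℂˣ) → G → ℂ} {μ : (↥(W₁ ⊔ W₂) →* ℂˣ) → ↥M → ℂ}
  {δ : (↥(W₁ ⊔ W₂) →* ℂˣ) → ℂ} {R : (↥M → ℂ) → Finset (G → ℂ)} {d : ℕ} {ε n : ℤ}

/-- The trivial intersection case. -/
theorem coherent_of_ti (hG : IsMinSimpleOddOrder G) (hM : IsCoatom M)
    (hP : IsTypePWith M W₁ U W₂) (hcore : typeCore M = ⁅M, M⁆)
    (hS : IsCoherenceSystem (calS M) (tau M) R)
    (hnil : Group.IsNilpotent (⁅M, M⁆ : Subgroup G))
    (hti : IsTISubset ((⁅M, M⁆ : Subgroup G) : Set G)) : IsCoherent (calS M) {1}ᶜ (tau M) := by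
  classical
  set H : Subgroup G := ⁅M, M⁆ with hH
  have hHM : H ≤ M := commutator_le_self M
  have hne : H ≠ ⊥ := fun e => hP.selfNormalizing.2.1
    (le_bot_iff.1 (e ▸ Noncoherent.W₂_le_derived hP))
  have hnorm : normalizer (H : Set G) = M := by
    refine le_antisymm ?_ (derived_le_normalizer M)
    by_contra hle
    have htop : normalizer (H : Set G) = ⊤ :=
      hM.2 _ (lt_of_le_not_ge (derived_le_normalizer M) hle)
    haveI := normalizer_eq_top_iff.1 htop
    haveI := hG.2.1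
    rcases IsSimpleGroup.eq_bot_or_eq_top_of_normal H inferInstance with h | h
    · exact hne h
    · exact hM.1 (top_le_iff.1 (h ▸ hHM))
  have hcoh := sibleyPrime M H W₁ W₂ (hG.1.of_dvd_nat (card_subgroup_dvd_card M)) hnil
    (derived_le_normalizer M) hP.W₁_compl hP.W₁_hall hP.W₁_ne hP.W₁_cyclic
    (hP.W₂_le.trans inf_le_right) hP.W₂_centralizer hP.selfNormalizing hti hnorm
  rw [show H.subgroupOf M = derivedIn M from rfl, ← calS_eq_above hcore] at hcoh
  have hTI' : ∀ y : M, y ∈ derivedIn M → y ≠ 1 → ∀ x : G, ∀ hx : x⁻¹ * (y : G) * x ∈ M,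
      (⟨_, hx⟩ : M) ∈ derivedIn M → x ∈ M := by
    intro y hy hy1 x hx hxH
    by_contra hxM
    refine hy1 (Subtype.ext (hti x⁻¹ (fun h => hxM ?_) y hy (by rw [inv_inv]; exact hxH)))
    rw [hnorm] at h
    simpa using inv_mem h
  have hD : DadeHypothesis (typeA0 M) M (supportR M) :=
    (OddLocal.DadeSets.main hG hM _ (Or.inr (Or.inr rfl))).2
  obtain ⟨hex, τ₁, hτ₁, hagree⟩ := hcoh
  refine ⟨hex, τ₁, hτ₁, fun α hα => ?_⟩
  rw [hagree α hα]
  have hgen : IsGeneralizedCharacter M α := Coherence.isGen_of_zspan hS hα.1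
  have hαc := isGen_isClassFunction hgen
  have hoff : ∀ y : M, y ∉ derivedIn M → α y = 0 := fun y hy => by
    refine Submodule.span_induction (p := fun f _ => f y = 0) ?_ rfl ?_ ?_ hα.1
    · intro χ hχ
      rw [calS_eq_above hcore] at hχ
      obtain ⟨θ, -, -, -, rfl⟩ := hχ
      exact Induce.indFun_apply_normal_notMem (derivedIn M) θ hy
    · intro a b _ _ ha hb; rw [Pi.add_apply, ha, hb, add_zero]
    · intro k a _ ha; rw [Pi.smul_apply, ha, smul_zero]
  have hdc := Dade.isClassFunction hD hαc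
  have hic : IsClassFunction G (indFun M α) := isGen_isClassFunction (isGen_indFun M hgen)
  funext g
  show indFun M α g = dadeIsometry (typeA0 M) M (supportR M) α g
  by_cases hg : ∃ y : M, y ∈ derivedIn M ∧ y ≠ 1 ∧ ∃ x : G, x * g * x⁻¹ = (y : G)
  · obtain ⟨y, hy, hy1, x, hx⟩ := hg
    have hA : (y : G) ∈ typeA0 M := Or.inl (by
      rw [typeA_eq_core hP hG hM hcore]
      exact ⟨hy, fun e => hy1 (Subtype.ext e)⟩)
    rw [← hic g x, ← hdc g x, hx,
      Coherence.TI.ind_value M (derivedIn M) hTI' hαc hoff hy hy1,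
      Dade.apply_eq hD hαc hA (one_mem _) (x := 1) (g := (y : G)) (by group)]
  · push Not at hg
    have hzero : ∀ y : M, (∃ x : G, x * g * x⁻¹ = (y : G)) → α y = 0 := by
      rintro y ⟨x, hx⟩
      by_cases hy : y ∈ derivedIn M
      · by_cases hy1 : y = 1
        · rw [hy1]; exact Isometry.apply_one_eq_zero hα
        · exact absurd hx (hg y hy hy1 x)
      · exact hoff y hy
    trans (0 : ℂ)
    · refine Induce.indFun_eq_zero M α g fun x => ?_
      by_cases hx : x⁻¹ * g * x ∈ M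
      · rw [CharTheory.IndBasic.extendByZero_of_mem M α hx]
        exact hzero ⟨_, hx⟩ ⟨x⁻¹, by simp⟩
      · exact CharTheory.IndBasic.extendByZero_of_notMem M α hx
    · symm
      by_cases h : ∃ a ∈ typeA0 M, ∃ x : G, ∃ u ∈ supportR M a, x * g * x⁻¹ = a * u
      · obtain ⟨a, ha, x, u, hu, e⟩ := h
        rw [Dade.apply_eq hD hαc ha hu e]
        rw [supportR_eq_bot hG hM (kappa_nonempty_of_typeP hG hM hP) ha, mem_bot] at hu
        exact hzero _ ⟨x, by rw [e, hu, mul_one]⟩
      · push Not at h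
        exact Dade.apply_eq_zero h

end Cfsg.Agent.OddChar.TypeP.NoTypeV
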