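import Cfsg.Agent.OddChar.TypeP.Noncoherent.Values
import Cfsg.Agent.OddChar.TypeP.Columns
import Cfsg.Agent.OddChar.TypeP.Subcoherent
import Cfsg.Agent.Lib.Characters.Integrality
import Cfsg.Agent.S1486

/-!
# `M'` non-abelian of order `p ^ 3`: the characters
-/

set_option autoImplicit false
set_option linter.unusedSectionVars false
set_option linter.style.haveILetI false

namespace Cfsg.Agent.OddChar.TypeP.NoTypeV

open Cfsg Subgroup
open Cfsg.Agent.Characters

universe u

/-- In a non-abelian group of order `p ^ 3` the derived subgroup has order `p`. -/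
theorem card_commutator_of_cube {H : Type*} [Group H] [Finite H] {p : ℕ} (hp : p.Prime)
    (hH : Nat.card H = p ^ 3) (hne : commutator H ≠ ⊥) : Nat.card (commutator H) = p := by
  haveI := Fact.mk hp
  have hpg : IsPGroup p H := IsPGroup.of_card hH
  haveI : Nontrivial H := Finite.one_lt_card_iff_nontrivial.1 (by
    rw [hH]; exact Nat.one_lt_pow (by norm_num) hp.one_lt)
  haveI := hpg.center_nontrivial
  obtain ⟨k, hk, hkz⟩ := (Nat.dvd_prime_pow hp).1 (hH ▸ card_subgroup_dvd_card (center H))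
  have hk0 : k ≠ 0 := fun e => by
    rw [e, pow_zero] at hkz
    exact (Finite.one_lt_card (α := center H)).ne' hkz
  have hidx : (center H).index = p ^ (3 - k) := by
    have := (center H).card_mul_index
    rw [hH, hkz, show p ^ 3 = p ^ k * p ^ (3 - k) by rw [← pow_add]; congr 1; omega] at this
    exact Nat.eq_of_mul_eq_mul_left (pow_pos hp.pos k) this
  have hk1 : k = 1 := by
    by_contra hk'
    have hcyc : IsCyclic (H ⧸ center H) := by
      rcases (show k = 2 ∨ k = 3 by omega) with rfl | rfl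
      · exact isCyclic_of_prime_card (p := p) (by rw [← Subgroup.index_eq_card, hidx]; simp)
      · haveI : Subsingleton (H ⧸ center H) :=
          (Nat.card_eq_one_iff_unique.1 (by rw [← Subgroup.index_eq_card, hidx]; simp)).1
        infer_instance
    refine hne (commutator_def H ▸ commutator_eq_bot_iff_le_centralizer.2 fun x _ y _ => ?_)
    haveI := (MonoidHom.isMulCommutative_of_isCyclic_of_ker_le_center
      (QuotientGroup.mk' (center H)) (QuotientGroup.ker_mk' _).le)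
    exact mul_comm' y x 
  have hle : commutator H ≤ center H := by
    rw [commutator_def, commutator_le]
    intro a _ b _
    rw [← QuotientGroup.eq_one_iff]
    show QuotientGroup.mk' (center H) _ = 1
    rw [map_commutatorElement, commutatorElement_eq_one_iff_mul_comm]
    exact IsPGroup.commutative_of_card_eq_prime_sq (p := p)
      (by rw [← Subgroup.index_eq_card, hidx, hk1]) _ _
  have hd := card_dvd_of_le hle
  rw [hkz, hk1, pow_one] at hd
  exact ((Nat.dvd_prime hp).1 hd).resolve_left fun e => hne (card_eq_one.1 e)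

variable {G : Type u} [Group G] [Fintype G] {M W₁ U W₂ : Subgroup G} [Fintype M]
  {η : (↥(W₁ ⊔ W₂) →* ℂˣ) → G → ℂ} {μ : (↥(W₁ ⊔ W₂) →* ℂˣ) → ↥M → ℂ}
  {δ : (↥(W₁ ⊔ W₂) →* ℂˣ) → ℂ} {R : (↥M → ℂ) → Finset (G → ℂ)} {d : ℕ} {ε n : ℤ}
  (c : Noncoherent.Ctx M W₁ U W₂ η μ δ R d ε n) {p : ℕ}
  (hp : p.Prime) (hK : Nat.card (derivedIn M) = p ^ 3) (hW : Nat.card W₂ = p)
  (hidx : (commutator ↥(derivedIn M)).index = p ^ 2)
include c hp hK hW hidx

theorem mu_degree_one {j : rightSet W₁ W₂} (hj1 : (j : ↥(W₁ ⊔ W₂) →* ℂˣ) ≠ 1) :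
    μ (j : ↥(W₁ ⊔ W₂) →* ℂˣ) 1 = (d : ℂ) := by
  have := c.hc.degree 1 Tools.one_mem_leftSet j j.2 hj1
  rwa [show (1 : ↥(W₁ ⊔ W₂) →* ℂˣ) * j = j from one_mul (j : ↥(W₁ ⊔ W₂) →* ℂˣ)] at this

theorem classify : d = p ∧ ∀ θ : derivedIn M → ℂ, IsIrrCharacter (derivedIn M) θ →
    θ 1 = 1 ∨ ∃ j ∈ rightSet W₁ W₂, j ≠ 1 ∧ θ = fun y : derivedIn M => μ j y := by
  classical
  haveI := Fintype.ofFinite (derivedIn M)
  haveI := Fintype.ofFinite (IrrCharacter (derivedIn M))
  haveI := Fintype.ofFinite (rightSet W₁ W₂)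
  let j₀ : rightSet W₁ W₂ := ⟨1, Tools.one_mem_rightSet⟩
  let F : rightSet W₁ W₂ → IrrCharacter (derivedIn M) := fun j => ⟨_, c.hμ.res_irr c.hG c.hP j.2⟩
  have hinj : Function.Injective F := fun a b e => Subtype.ext (c.hμ.col_injOn c.hG c.hP a.2 b.2 (by
    rw [c.hμ.col_eq_ind c.hG c.hP, c.hμ.col_eq_ind c.hG c.hP]
    exact congrArg (indFun _) (congrArg Subtype.val e)))
  have hdeg : ∀ j : rightSet W₁ W₂, j ≠ j₀ → (F j : derivedIn M → ℂ) 1 = (d : ℂ) := fun j hj =>
    mu_degree_one c hp hK hW hidx fun e => hj (Subtype.ext e)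
  choose k hk0 hk using fun t : IrrCharacter (derivedIn M) => irr_one_pos t.2
  obtain ⟨j₁, hj₁⟩ : ∃ j : rightSet W₁ W₂, j ≠ j₀ := by
    obtain ⟨j, hj, hj1⟩ := exists_right_ne_one c.hP
    exact ⟨⟨j, hj⟩, fun e => hj1 (congrArg Subtype.val e)⟩
  obtain ⟨e, he, -, hdvd⟩ := irr_degree_dvd_card (F j₁).2
  rw [hdeg j₁ hj₁] at he
  obtain rfl : d = e := Nat.cast_injective he
  rw [hK] at hdvd
  obtain ⟨s, -, hs⟩ := (Nat.dvd_prime_pow hp).1 hdvd
  have hs0 : s ≠ 0 := fun h0 => by
    have := c.hc.two_le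
    rw [hs, h0, pow_zero] at this
    omega
  have hpd : p ≤ d := hs ▸ Nat.le_self_pow hs0 p
  -- the sum of the squares
  set L := Finset.univ.filter fun t : IrrCharacter (derivedIn M) => (t : derivedIn M → ℂ) 1 = 1
    with hL
  set C := ((Finset.univ : Finset (rightSet W₁ W₂)).erase j₀).image F with hC
  have hkF : ∀ t ∈ C, k t = d := by
    intro t ht
    obtain ⟨j, hj, rfl⟩ := Finset.mem_image.1 ht
    exact Nat.cast_injective ((hk _).symm.trans (hdeg j (Finset.ne_of_mem_erase hj)))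
  have hkL : ∀ t ∈ L, k t = 1 := fun t ht =>
    Nat.cast_injective (R := ℂ) (by rw [← hk, (Finset.mem_filter.1 ht).2, Nat.cast_one])
  have hdis : Disjoint L C := Finset.disjoint_left.2 fun t hl hc => by
    have := c.hc.two_le
    rw [← hkF t hc, hkL t hl] at this
    omega
  have hLcard : L.card = p ^ 2 := by
    rw [← hidx, ← card_degree_one, hL, Nat.card_eq_fintype_card, Fintype.card_subtype]
  have hCcard : C.card = p - 1 := by
    rw [hC, Finset.card_image_of_injective _ hinj, Finset.card_erase_of_mem (Finset.mem_univ _),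
      Finset.card_univ, ← Nat.card_eq_fintype_card, Tools.card_rightSet c.hP.selfNormalizing, hW]
  have hsum : ∑ t, k t ^ 2 = p ^ 3 := by
    have h := sum_degree_sq (G := derivedIn M)
    simp only [hk, hK] at h
    exact_mod_cast h
  have hrest := Finset.sum_add_sum_compl (L ∪ C) (fun t => k t ^ 2)
  rw [hsum, Finset.sum_union hdis,
    Finset.sum_congr rfl (g := fun _ => 1) fun t ht => (by simp [hkL t ht] : k t ^ 2 = 1),
    Finset.sum_congr (s₁ := C) rfl (g := fun _ => d ^ 2) fun t ht => (by rw [hkF t ht]),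
    Finset.sum_const, Finset.sum_const, smul_eq_mul, smul_eq_mul, hLcard, hCcard, mul_one] at hrest
  obtain ⟨r, rfl⟩ : ∃ r, p = r + 1 := ⟨p - 1, by have := hp.pos; omega⟩
  rw [Nat.add_sub_cancel] at hrest
  have h1 : r * (r + 1) ^ 2 ≤ r * d ^ 2 := Nat.mul_le_mul_left r (Nat.pow_le_pow_left hpd 2)
  have h2 : (r + 1) ^ 3 = (r + 1) ^ 2 + r * (r + 1) ^ 2 := by ring
  have hcompl : ∑ t ∈ (L ∪ C)ᶜ, k t ^ 2 = 0 := by omega
  have hdp : d = r + 1 := by
    refine le_antisymm ?_ hpd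
    have h3 : r * d ^ 2 ≤ r * (r + 1) ^ 2 := by omega
    exact (Nat.pow_le_pow_iff_left two_ne_zero).1 (Nat.le_of_mul_le_mul_left h3 (by
      have := hp.two_le; omega))
  refine ⟨hdp, fun θ hθ => ?_⟩
  have hmem : (⟨θ, hθ⟩ : IrrCharacter (derivedIn M)) ∈ L ∪ C := by
    by_contra hn
    have := (Finset.sum_eq_zero_iff.1 hcompl) _ (Finset.mem_compl.2 hn)
    exact (Nat.pos_iff_ne_zero.1 (hk0 ⟨θ, hθ⟩)) (pow_eq_zero_iff two_ne_zero |>.1 this)
  rcases Finset.mem_union.1 hmem with hm | hm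
  · exact Or.inl (Finset.mem_filter.1 hm).2
  · obtain ⟨j, hj, e⟩ := Finset.mem_image.1 hm
    exact Or.inr ⟨j, j.2, fun e' => Finset.ne_of_mem_erase hj (Subtype.ext e'),
      (congrArg Subtype.val e).symm⟩

theorem member_cases {φ : M → ℂ} (hφ : φ ∈ calS M) :
    (φ 1 = (Nat.card W₁ : ℂ) ∧ IsIrrCharacter M φ) ∨
      ∃ j ∈ rightSet W₁ W₂, j ≠ 1 ∧ φ = colSum μ j := by
  by_cases hi : IsIrrCharacter M φ
  swap
  · exact Or.inr (c.hμ.red_eq_col c.hG c.hP hφ hi)
  obtain ⟨θ, hθ, -, -, e⟩ := hφ.1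
  rcases (classify c hp hK hW hidx).2 θ hθ with h1 | ⟨j, hj, hj1, rfl⟩
  · exact Or.inl ⟨by rw [e, indFun_one, h1, Noncoherent.index_derivedIn c.hP, mul_one], hi⟩
  · exact Or.inr ⟨j, hj, hj1, by rw [e, c.hμ.col_eq_ind c.hG c.hP]⟩

omit hp hK hW hidx in
/-- At most `|W₁|` characters of `M'` of degree one induce to the same function. -/
theorem card_fibre_le [Fintype (derivedIn M)] {φ : M → ℂ} (hφ1 : φ 1 = (Nat.card W₁ : ℂ))
    (hφi : IsIrrCharacter M φ) (T : Finset (IrrCharacter (derivedIn M)))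
    (hT : ∀ t ∈ T, (t : derivedIn M → ℂ) 1 = 1 ∧ indFun (derivedIn M) (t : derivedIn M → ℂ) = φ) :
    T.card ≤ Nat.card W₁ := by
  classical
  have hres : IsCharacter (derivedIn M) (fun y : derivedIn M => φ y) :=
    isCharacter_restrict _ (isCharacter_of_isIrr hφi)
  haveI := Fintype.ofFinite (IrrCharacter (derivedIn M))
  choose a ha using fun t : IrrCharacter (derivedIn M) =>
    classInner_char_nat hres (irr_isCharacter t)
  choose k hk0 hk using fun t : IrrCharacter (derivedIn M) => irr_one_pos t.2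
  have hone : ∀ t ∈ T, a t = 1 ∧ k t = 1 := by
    intro t ht
    refine ⟨Nat.cast_injective (R := ℂ) ?_, Nat.cast_injective (R := ℂ) ?_⟩
    · rw [← ha, Nat.cast_one]
      refine Coherence.inner_comm_int (z := 1) ?_ |>.trans Int.cast_one
      rw [← frobenius_reciprocity _ _ (char_isClassFunction (isCharacter_of_isIrr hφi)), (hT t ht).2,
        classInner_isIrr_self hφi, Int.cast_one]
    · rw [← hk, (hT t ht).1, Nat.cast_one]
  have hsum : ∑ t, a t * k t = Nat.card W₁ := by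
    have h := congrFun (classFun_eq_sum (char_isClassFunction hres)) 1
    simp only [Finset.sum_apply, Pi.smul_apply, smul_eq_mul, ha, hk, OneMemClass.coe_one] at h
    rw [hφ1] at h
    exact_mod_cast h.symm
  calc T.card = ∑ t ∈ T, a t * k t := by
        rw [Finset.card_eq_sum_ones]
        exact Finset.sum_congr rfl fun t ht => by rw [(hone t ht).1, (hone t ht).2]
    _ ≤ ∑ t, a t * k t := Finset.sum_le_univ_sum_of_nonneg fun _ => Nat.zero_le _
    _ = Nat.card W₁ := hsum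

/-- There are at least `(p² - 1) / |W₁|` members of degree `|W₁|`. -/
theorem sq_le_card_mul (T : Finset (M → ℂ))
    (hT : ∀ φ ∈ calS M, φ 1 = (Nat.card W₁ : ℂ) → φ ∈ T) : p ^ 2 - 1 ≤ T.card * Nat.card W₁ := by
  classical
  haveI := Fintype.ofFinite (derivedIn M)
  haveI := Fintype.ofFinite (IrrCharacter (derivedIn M))
  set L := (Finset.univ.filter fun t : IrrCharacter (derivedIn M) =>
    (t : derivedIn M → ℂ) 1 = 1).erase (trivIrr _) with hL
  have hmem : ∀ t ∈ L, indFun (derivedIn M) (t : derivedIn M → ℂ) ∈ calS M ∧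
      indFun (derivedIn M) (t : derivedIn M → ℂ) 1 = (Nat.card W₁ : ℂ) ∧
      IsIrrCharacter M (indFun (derivedIn M) (t : derivedIn M → ℂ)) := by
    intro t ht
    obtain ⟨hne, ht1⟩ := Finset.mem_erase.1 ht
    have hdeg : indFun (derivedIn M) (t : derivedIn M → ℂ) 1 = (Nat.card W₁ : ℂ) := by
      rw [indFun_one, (Finset.mem_filter.1 ht1).2, Noncoherent.index_derivedIn c.hP, mul_one]
    have hS : indFun (derivedIn M) (t : derivedIn M → ℂ) ∈ calS M := by
      rw [Noncoherent.calS_eq_above c.hcore]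
      exact ⟨t, t.2, fun e => hne (Subtype.ext e),
        fun a ha => by rw [show a = 1 from Subtype.ext (mem_bot.1 ha)], rfl⟩
    refine ⟨hS, hdeg, ?_⟩
    by_contra hi
    obtain ⟨j, hj, hj1, e⟩ := c.hμ.red_eq_col c.hG c.hP hS hi
    rw [e, c.col_one hj hj1, mul_eq_right₀ (Nat.cast_ne_zero.2 Nat.card_pos.ne'),
      Nat.cast_eq_one] at hdeg
    have := c.hc.two_le
    omega
  have hcard : L.card = p ^ 2 - 1 := by
    rw [hL, Finset.card_erase_of_mem ((Finset.mem_filter.2 ⟨Finset.mem_univ _, rfl⟩ :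
      trivIrr ↥(derivedIn M) ∈ Finset.univ.filter fun t : IrrCharacter (derivedIn M) =>
        (t : derivedIn M → ℂ) 1 = 1)), ← hidx,
      ← card_degree_one, Nat.card_eq_fintype_card, Fintype.card_subtype]
  rw [← hcard]
  rw [mul_comm]
  refine Finset.card_le_mul_card_image_of_maps_to
    (f := fun t : IrrCharacter (derivedIn M) => indFun (derivedIn M) (t : derivedIn M → ℂ))
    (fun t ht => hT _ (hmem t ht).1 (hmem t ht).2.1) (Nat.card W₁) fun φ _ => ?_
  rcases Finset.eq_empty_or_nonempty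
    (L.filter fun t : IrrCharacter (derivedIn M) => indFun (derivedIn M) (t : derivedIn M → ℂ) = φ) with he | ⟨t, ht⟩
  · rw [he, Finset.card_empty]; exact Nat.zero_le _
  obtain ⟨htL, rfl⟩ := Finset.mem_filter.1 ht
  refine card_fibre_le c (hmem t htL).2.1 (hmem t htL).2.2 _ fun t' ht' => ?_
  obtain ⟨h1, h2⟩ := Finset.mem_filter.1 ht'
  exact ⟨(Finset.mem_filter.1 (Finset.mem_erase.1 h1).2).2, h2⟩

end Cfsg.Agent.OddChar.TypeP.NoTypeV
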