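import Cfsg.Agent.OddChar.TypeP.NoTypeV.Cube
import Cfsg.Agent.OddChar.TypeP.Tools.Grid
import Cfsg.Agent.S1517

/-!
# The characters of degree `|W₁|` and the images of the columns
-/

set_option autoImplicit false
set_option linter.unusedSectionVars false
set_option linter.style.haveILetI false

namespace Cfsg.Agent.OddChar.TypeP.NoTypeV

open Cfsg Subgroup
open Cfsg.Agent.Characters Cfsg.Agent.OddChar.Coherence Cfsg.Agent.OddChar.TypeP.Noncoherent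

universe u

variable {G : Type u} [Group G] [Fintype G] {M W₁ U W₂ : Subgroup G} [Fintype M]
  {η : (↥(W₁ ⊔ W₂) →* ℂˣ) → G → ℂ} {μ : (↥(W₁ ⊔ W₂) →* ℂˣ) → ↥M → ℂ}
  {δ : (↥(W₁ ⊔ W₂) →* ℂˣ) → ℂ} {R : (↥M → ℂ) → Finset (G → ℂ)} {d : ℕ} {ε n : ℤ}

theorem tau_smul (z : ℂ) (α : M → ℂ) : tau M (z • α) = z • tau M α := by
  funext g
  simp only [tau, dadeIsometry, Pi.smul_apply]
  split_ifs <;> simp

variable (c : Noncoherent.Ctx M W₁ U W₂ η μ δ R d ε n) {p : ℕ}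
  (hp : p.Prime) (hK : Nat.card (derivedIn M) = p ^ 3) (hW : Nat.card W₂ = p)
  (hidx : (commutator ↥(derivedIn M)).index = p ^ 2) (hdiv : Nat.card W₁ ∣ p + 1)
include c hp hK hW hidx hdiv

theorem consts : d = p ∧ ε = -1 ∧ n * (Nat.card W₁ : ℤ) = (p : ℤ) + 1 ∧ 2 ≤ n ∧ 5 ≤ p := by
  obtain ⟨hd, -⟩ := classify c hp hK hW hidx
  have h3 := c.three_le
  have hq : Odd (Nat.card W₁) := c.hG.1.of_dvd_nat (card_subgroup_dvd_card W₁)
  have hpo : Odd p := hW ▸ c.hG.1.of_dvd_nat (card_subgroup_dvd_card W₂)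
  have heq : (p : ℤ) = ε + n * (Nat.card W₁ : ℤ) := hd ▸ c.hc.eq
  have hε : ε = -1 := by
    refine c.hc.sign.resolve_left fun e => ?_
    have h1 : (Nat.card W₁ : ℤ) ∣ (p : ℤ) + 1 := by exact_mod_cast Int.natCast_dvd_natCast.2 hdiv
    have h2 : (Nat.card W₁ : ℤ) ∣ 2 := by
      have h2' : (Nat.card W₁ : ℤ) ∣ (p : ℤ) - 1 := ⟨n, by rw [heq, e]; ring⟩
      simpa using dvd_sub h1 h2'
    have := Int.le_of_dvd two_pos h2
    omega
  subst hε
  have hn : 2 ≤ n := by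
    obtain ⟨a, ha⟩ := hq
    obtain ⟨b, hb⟩ := hpo
    have hb1 := hp.two_le
    rcases le_or_gt n 0 with h | h
    · nlinarith
    · by_contra hlt
      obtain rfl : n = 1 := by omega
      omega
  refine ⟨hd, rfl, by linarith, hn, ?_⟩
  have h5 : (5 : ℤ) ≤ p := by nlinarith
  exact_mod_cast h5

/-- The members of degree `|W₁|`. -/
theorem deg_irr {φ : M → ℂ} (hφ : φ ∈ calS M) (h1 : φ 1 = (Nat.card W₁ : ℂ)) :
    IsIrrCharacter M φ := by
  rcases member_cases c hp hK hW hidx hφ with h | ⟨j, hj, hj1, rfl⟩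
  · exact h.2
  · exfalso
    rw [c.col_one hj hj1, mul_eq_right₀ (Nat.cast_ne_zero.2 Nat.card_pos.ne'), Nat.cast_eq_one] at h1
    have := c.hc.two_le
    omega

omit hp hK hW hidx hdiv in
theorem col_one_ne {j : ↥(W₁ ⊔ W₂) →* ℂˣ} (hj : j ∈ rightSet W₁ W₂) (hj1 : j ≠ 1) :
    colSum μ j 1 ≠ (Nat.card W₁ : ℂ) := fun h => by
  rw [c.col_one hj hj1, mul_eq_right₀ (Nat.cast_ne_zero.2 Nat.card_pos.ne'), Nat.cast_eq_one] at h
  have := c.hc.two_le
  omega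

omit hp hK hW hidx hdiv in
theorem col_trivial_one : colSum μ 1 1 = (Nat.card W₁ : ℂ) := by
  rw [c.hμ.col_apply_derived c.hG c.hP (U := U) 1 (x := (1 : M)) (one_mem _), c.hμ.map_one, mul_one]

section Tau

variable {τ₁ : (↥M → ℂ) → G → ℂ}
  (h1 : IsLinearIsometryOn (zspan {φ | φ ∈ calS M ∧ φ 1 = (Nat.card W₁ : ℂ)}) τ₁)
  (hag : ∀ α ∈ zspanOn {φ | φ ∈ calS M ∧ φ 1 = (Nat.card W₁ : ℂ)} {1}ᶜ, τ₁ α = tau M α)
include h1 hag

theorem inner_image {φ ψ : M → ℂ} (hφ : φ ∈ calS M) (hφ1 : φ 1 = (Nat.card W₁ : ℂ))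
    (hψ : ψ ∈ calS M) (hψ1 : ψ 1 = (Nat.card W₁ : ℂ)) [Decidable (φ = ψ)] :
    classInner (τ₁ φ) (τ₁ ψ) = if φ = ψ then 1 else 0 := by
  rw [h1.2.2.1 _ (Isometry.mem_zS (show φ ∈ _ from ⟨hφ, hφ1⟩)) _
    (Isometry.mem_zS (show ψ ∈ _ from ⟨hψ, hψ1⟩))]
  split_ifs with e
  · subst e; exact classInner_isIrr_self (deg_irr c hp hK hW hidx hdiv hφ hφ1)
  · exact c.hsys.orthogonal φ hφ ψ hψ e

theorem image_orth_eta {φ : M → ℂ} (hφ : φ ∈ calS M) (hφ1 : φ 1 = (Nat.card W₁ : ℂ))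
    (ω : ↥(W₁ ⊔ W₂) →* ℂˣ) : classInner (η ω) (τ₁ φ) = 0 :=
  inner_comm_zero (c.image_orth hφ (deg_irr c hp hK hW hidx hdiv hφ hφ1) hφ1 (fun _ h => h.1) h1 hag
    ⟨hφ, hφ1⟩ ⟨c.hsys.conj_mem φ hφ, by rw [conj_one c.hsys hφ, hφ1]⟩ ω)

/-- The image of `μ i j - ε μ i - n ζ`. -/
theorem tau_alpha {ζ : M → ℂ} (hζ : ζ ∈ calS M) (hζ1 : ζ 1 = (Nat.card W₁ : ℂ))
    {i j : ↥(W₁ ⊔ W₂) →* ℂˣ} (hi : i ∈ leftSet W₁ W₂) (hj : j ∈ rightSet W₁ W₂) (hj1 : j ≠ 1) :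
    tau M (alphaFun μ ζ ε n i j) = (ε : ℂ) • (η (i * j) - η i) - (n : ℂ) • τ₁ ζ := by
  classical
  obtain ⟨-, -, hnq, hn, hp5⟩ := consts c hp hK hW hidx hdiv
  have hζi := deg_irr c hp hK hW hidx hdiv hζ hζ1
  set S₁ : Set (↥M → ℂ) := {φ | φ ∈ calS M ∧ φ 1 = (Nat.card W₁ : ℂ)} with hS₁
  have hζS : ζ ∈ S₁ := ⟨hζ, hζ1⟩
  have hfin : S₁.Finite := (Coherence.finite_mem c.hsys).subset fun _ h => h.1
  set T := hfin.toFinset with hT
  have hmT : ∀ {φ}, φ ∈ T ↔ φ ∈ S₁ := fun {φ} => hfin.mem_toFinset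
  set α := alphaFun μ ζ ε n i j with hα
  have hX : IsGeneralizedCharacter G (tau M α) :=
    S1501.result _ _ _ c.dade α (c.alpha_gen hζ) fun x hx => c.alpha_supp hζ hζ1 hi hj hj1 hx
  have hXX : classInner (tau M α) (tau M α) = (2 : ℂ) + (n : ℂ) * n := by
    rw [inner_tau c.hG c.hM (isGen_isClassFunction (c.alpha_gen hζ (i := i) (j := j)))
      (fun x hx => c.alpha_supp hζ hζ1 hi hj hj1 hx)
      (isGen_isClassFunction (c.alpha_gen hζ (i := i) (j := j)))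
      (fun x hx => c.alpha_supp hζ hζ1 hi hj hj1 hx)]
    exact c.alpha_norm hζ hζi hζ1 hi hj hj1
  obtain ⟨a, ha⟩ := classInner_gen_int hX (h1.2.2.2 _ (Isometry.mem_zS hζS))
  set u : (↥M → ℂ) → ℤ := fun φ => if φ = ζ then a else n + a with hu
  have hcoef : ∀ φ ∈ T, classInner (tau M α) (τ₁ φ) = (u φ : ℂ) := by
    intro φ hφ
    obtain ⟨hφS, hφ1⟩ := hmT.1 hφ
    by_cases e : φ = ζ
    · rw [e, hu]; simpa using ha
    have h0 : classInner α φ = 0 := by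
      simp only [hα, alphaFun, classInner_sub_left, classInner_smul_left,
        c.inner_mu_irr hφS (deg_irr c hp hK hW hidx hdiv hφS hφ1),
        c.hsys.orthogonal ζ hζ φ hφS (Ne.symm e), mul_zero, sub_zero]
    rw [c.coef hζ hζi hζ1 hi hj hj1 (fun _ h => h.1) h1 hag hζS ⟨hφS, hφ1⟩ (k := 1)
      (by rw [hφ1, Int.cast_one, one_mul]), h0, ha, hu]
    simp [e]
  have hbes := Coherence.bessel (s := T) (f := τ₁) (n := fun _ => 1) (fun _ _ => one_pos)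
    (fun φ hφ ψ hψ => by
      rw [inner_image c hp hK hW hidx hdiv h1 hag (hmT.1 hφ).1 (hmT.1 hφ).2 (hmT.1 hψ).1
        (hmT.1 hψ).2, Nat.cast_one])
    (v := tau M α) (u := u) hcoef
  rw [hXX] at hbes
  simp only [Nat.cast_one, div_one] at hbes
  have hbesZ : ∑ φ ∈ T, u φ ^ 2 ≤ 2 + n * n := by
    have : ((∑ φ ∈ T, u φ ^ 2 : ℤ) : ℝ) ≤ ((2 + n * n : ℤ) : ℝ) := by
      push_cast; simpa using hbes
    exact_mod_cast this
  rw [← Finset.add_sum_erase _ _ (hmT.2 hζS),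
    Finset.sum_congr rfl (g := fun _ => (n + a) ^ 2) fun φ hφ => by
      rw [hu]; simp [(Finset.mem_erase.1 hφ).1],
    Finset.sum_const, nsmul_eq_mul, hu] at hbesZ
  simp only [↓reduceIte] at hbesZ
  have hN := sq_le_card_mul c hp hK hW hidx T fun φ hφ hφ1 => hmT.2 ⟨hφ, hφ1⟩
  have hTpos : 1 ≤ T.card := Finset.card_pos.2 ⟨ζ, hmT.2 hζS⟩
  rw [Finset.card_erase_of_mem (hmT.2 hζS), Nat.cast_sub hTpos, Nat.cast_one] at hbesZ
  refine c.alpha_exact hζ hζi hζ1 hi hj hj1 (fun _ h => h.1) h1 hag hζS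
    ⟨c.hsys.conj_mem ζ hζ, by rw [conj_one c.hsys hζ, hζ1]⟩ ?_
  rw [ha, ← Int.cast_neg]
  refine congrArg _ ?_
  by_contra hne
  have hN' : (p : ℤ) ^ 2 - 1 ≤ T.card * (Nat.card W₁ : ℤ) := by
    have h' : ((p ^ 2 - 1 : ℕ) : ℤ) ≤ ((T.card * Nat.card W₁ : ℕ) : ℤ) := by exact_mod_cast hN
    rw [Nat.cast_sub (Nat.one_le_pow _ _ hp.pos)] at h'
    push_cast at h'
    exact h'
  have hwpos : (0 : ℤ) < Nat.card W₁ := by exact_mod_cast Nat.card_pos
  have hNn : n * ((p : ℤ) - 1) ≤ T.card := le_of_mul_le_mul_right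
    (by calc n * ((p : ℤ) - 1) * (Nat.card W₁ : ℤ) = (n * Nat.card W₁) * ((p : ℤ) - 1) := by ring
          _ = (p : ℤ) ^ 2 - 1 := by rw [hnq]; ring
          _ ≤ _ := hN') hwpos
  set x := n + a with hx
  have hx1 : 1 ≤ x ^ 2 := by
    have : x ≠ 0 := fun e => hne (by omega)
    have : 0 < x ^ 2 := by positivity
    omega
  have h2x : 2 * n * x ≤ 2 * n * x ^ 2 :=
    mul_le_mul_of_nonneg_left (Int.le_self_sq x) (by omega)
  have hp4 : (4 : ℤ) * n ≤ T.card := by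
    have : (5 : ℤ) ≤ p := by exact_mod_cast hp5
    nlinarith
  have h4 : 4 * n * x ^ 2 ≤ (T.card : ℤ) * x ^ 2 := mul_le_mul_of_nonneg_right hp4 (sq_nonneg x)
  have ha' : a = x - n := by omega
  rw [ha'] at hbesZ
  nlinarith

/-- `τ (μ₀ - ζ)` is the first column minus `τ₁ ζ`. -/
theorem tau_beta {ζ : M → ℂ} (hζ : ζ ∈ calS M) (hζ1 : ζ 1 = (Nat.card W₁ : ℂ)) :
    tau M (colSum μ 1 - ζ) = colSum η 1 - τ₁ ζ := by
  classical
  haveI := Fintype.ofFinite (↥(W₁ ⊔ W₂) →* ℂˣ)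
  haveI : Fintype (leftSet W₁ W₂) := Fintype.ofFinite _
  haveI : Fintype (rightSet W₁ W₂) := Fintype.ofFinite _
  obtain ⟨-, hε, hnq, hn, hp5⟩ := consts c hp hK hW hidx hdiv
  have hζi := deg_irr c hp hK hW hidx hdiv hζ hζ1
  set S₁ : Set (↥M → ℂ) := {φ | φ ∈ calS M ∧ φ 1 = (Nat.card W₁ : ℂ)} with hS₁
  have hζS : ζ ∈ S₁ := ⟨hζ, hζ1⟩
  have hfin : S₁.Finite := (Coherence.finite_mem c.hsys).subset fun _ h => h.1
  set T := hfin.toFinset with hT
  have hmT : ∀ {φ}, φ ∈ T ↔ φ ∈ S₁ := fun {φ} => hfin.mem_toFinset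
  have h1r : (1 : ↥(W₁ ⊔ W₂) →* ℂˣ) ∈ rightSet W₁ W₂ := Tools.one_mem_rightSet
  set β := colSum μ 1 - ζ with hβdef
  have hβgen : IsGeneralizedCharacter M β := by
    refine isGen_sub ?_ (c.member hζ).1
    rw [Tools.colSum_eq_sum]
    exact isGen_sum _ _ fun i _ => isGen_of_isCharacter (isCharacter_of_isIrr (c.hμ.irr _))
  have hβc : IsClassFunction M β := isGen_isClassFunction hβgen
  have hβoff : ∀ x : M, (x : G) ∉ ⁅M, M⁆ → β x = 0 := fun x hx => by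
    rw [hβdef, Pi.sub_apply, c.hμ.col_apply_notMem c.hG c.hP 1 hx,
      (c.member hζ).2.2 x fun h => hx (mem_subgroupOf.1 h), sub_zero]
  have hβA : ∀ x : M, (x : G) ∉ typeA0 M → β x = 0 := by
    intro x hx
    by_cases hd : (x : G) ∈ ⁅M, M⁆
    · by_cases hx1 : x = 1
      · rw [hx1, hβdef, Pi.sub_apply, col_trivial_one c, hζ1, sub_self]
      · refine absurd (Or.inl ?_) hx
        rw [typeA_eq_core c.hP c.hG c.hM c.hcore]
        exact ⟨hd, fun e => hx1 (Subtype.ext e)⟩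
    · exact hβoff x hd
  set Y := tau M β with hYdef
  have hY : IsGeneralizedCharacter G Y := S1501.result _ _ _ c.dade β hβgen hβA
  have hcz : ∀ φ ∈ calS M, IsIrrCharacter M φ → classInner (colSum μ 1) φ = 0 := fun φ hφ hi => by
    rw [Tools.colSum_eq_sum, classInner_sum_left]
    exact Finset.sum_eq_zero fun i _ => c.inner_mu_irr hφ hi _
  have hYY : classInner Y Y = (Nat.card W₁ : ℂ) + 1 := by
    rw [hYdef, inner_tau c.hG c.hM hβc hβA hβc hβA, hβdef]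
    simp only [classInner_sub_left, classInner_sub_right, c.col_norm, hcz ζ hζ hζi,
      inner_comm_zero (hcz ζ hζ hζi), classInner_isIrr_self hζi]
    ring
  obtain ⟨e, he⟩ := Tools.exists_coef c.hη hY
  have hV : ∀ w : ↥(W₁ ⊔ W₂), (w : G) ∉ W₁ → (w : G) ∉ W₂ → Y w = 0 := fun w k1 k2 => by
    rw [hYdef, tau_apply_W c.hG c.hM c.hP hβc w k1 k2]
    exact hβoff _ fun hd => k2 (Noncoherent.mem_W₂_of_derived c.hP w.2 hd)
  have he1 : e 1 = 1 := by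
    have h := he 1
    rw [c.hη.map_one, hYdef, inner_tau_one c.hG c.hM hβc hβA, hβdef, classInner_sub_left,
      ← c.hμ.map_one, c.inner_mu_irr hζ hζi 1 |> inner_comm_zero, sub_zero] at h
    have h' := c.hμ.inner_col_mu c.hG c.hP h1r h1r ⟨1, Tools.one_mem_leftSet⟩
    rw [show ((⟨1, Tools.one_mem_leftSet⟩ : leftSet W₁ W₂) : ↥(W₁ ⊔ W₂) →* ℂˣ) * 1 = 1
      from one_mul (1 : ↥(W₁ ⊔ W₂) →* ℂˣ), if_pos rfl] at h'
    rw [h'] at h
    exact_mod_cast h.symm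
  obtain ⟨y, hy⟩ := classInner_gen_int hY (h1.2.2.2 _ (Isometry.mem_zS hζS))
  set u : (↥M → ℂ) → ℤ := fun φ => if φ = ζ then y else y + 1 with hu
  have hcoef : ∀ φ ∈ T, classInner Y (τ₁ φ) = (u φ : ℂ) := by
    intro φ hφ
    obtain ⟨hφS, hφ1⟩ := hmT.1 hφ
    by_cases ee : φ = ζ
    · rw [ee, hu]; simpa using hy
    have hm : ζ - φ ∈ zspanOn S₁ {1}ᶜ := Isometry.mem_zspanOn_compl_one
      (Submodule.sub_mem _ (Isometry.mem_zS hζS) (Isometry.mem_zS ⟨hφS, hφ1⟩))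
      (by rw [Pi.sub_apply, hζ1, hφ1, sub_self])
    have hm' : ζ - φ ∈ zspanOn (calS M) {1}ᶜ := Isometry.zspanOn_mono _ (fun _ h => h.1) hm
    have hd : classInner Y (τ₁ (ζ - φ)) = -1 := by
      rw [hag _ hm, hYdef, inner_tau c.hG c.hM hβc hβA
        (c.span hm'.1).2.1 (fun x hx => c.supp₀ hm' hx), hβdef]
      simp only [classInner_sub_left, classInner_sub_right, hcz ζ hζ hζi,
        hcz φ hφS (deg_irr c hp hK hW hidx hdiv hφS hφ1), classInner_isIrr_self hζi,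
        c.hsys.orthogonal ζ hζ φ hφS (Ne.symm ee)]
      ring
    rw [Isometry.map_sub' (M := Isometry.zS S₁) h1 (Isometry.mem_zS hζS)
      (Isometry.mem_zS ⟨hφS, hφ1⟩), classInner_sub_right, hy] at hd
    rw [hu]
    simp only [if_neg ee]
    push_cast
    linear_combination -hd
  -- the first row
  set k : ℤ := n * (1 + y) with hk
  have hrow : ∀ j ∈ rightSet W₁ W₂, j ≠ 1 → e j = -k := by
    intro j hj hj1
    have hi := Tools.one_mem_leftSet (W₁ := W₁) (W₂ := W₂)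
    have hl : classInner Y (tau M (alphaFun μ ζ ε n 1 j)) = (n : ℂ) - ε := by
      rw [hYdef, inner_tau c.hG c.hM hβc hβA
        (isGen_isClassFunction (c.alpha_gen hζ (i := 1) (j := j)))
        (fun x hx => c.alpha_supp hζ hζ1 hi hj hj1 hx), hβdef, alphaFun]
      have e1 := c.hμ.inner_col_mu c.hG c.hP h1r hj ⟨1, hi⟩
      rw [if_neg (Ne.symm hj1)] at e1
      have e2 := c.hμ.inner_col_mu c.hG c.hP h1r h1r ⟨1, hi⟩
      rw [show ((⟨1, hi⟩ : leftSet W₁ W₂) : ↥(W₁ ⊔ W₂) →* ℂˣ) * 1 = 1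
        from one_mul (1 : ↥(W₁ ⊔ W₂) →* ℂˣ), if_pos rfl] at e2
      simp only [classInner_sub_left, classInner_sub_right, classInner_smul_right, map_intCast,
        hcz ζ hζ hζi, classInner_isIrr_self hζi, e2, e1,
        inner_comm_zero (c.inner_mu_irr hζ hζi _)]
      ring
    rw [tau_alpha c hp hK hW hidx hdiv h1 hag hζ hζ1 hi hj hj1, classInner_sub_right,
      classInner_smul_right, classInner_smul_right, map_intCast, map_intCast, classInner_sub_right,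
      hy, he, he, he1, show (1 : ↥(W₁ ⊔ W₂) →* ℂˣ) * j = j from one_mul (j : ↥(W₁ ⊔ W₂) →* ℂˣ),
      hε] at hl
    have : (e j : ℂ) = ((-k : ℤ) : ℂ) := by
      rw [hk]; push_cast at hl ⊢; linear_combination -hl
    exact_mod_cast this
  have hgrid : ∀ i ∈ leftSet W₁ W₂, ∀ j ∈ rightSet W₁ W₂, j ≠ 1 → e (i * j) = e i - k - 1 :=
    fun i hi j hj hj1 => by
      rw [Tools.coef_grid c.hη c.hP.selfNormalizing (isGen_isClassFunction hY) hV he hi hj,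
        hrow j hj hj1, he1]
      ring
  let j₀ : rightSet W₁ W₂ := ⟨1, h1r⟩
  have hp1 : (4 : ℤ) ≤ (p : ℤ) - 1 := by
    have : (5 : ℤ) ≤ p := by exact_mod_cast hp5
    omega
  have hsumω : ∑ ω, e ω ^ 2 =
      ∑ i : leftSet W₁ W₂, (e i ^ 2 + ((p : ℤ) - 1) * (e i - k - 1) ^ 2) := by
    rw [← (Tools.cellEquiv c.hP.selfNormalizing).sum_comp, Fintype.sum_prod_type]
    refine Finset.sum_congr rfl fun i _ => ?_
    rw [← Finset.add_sum_erase _ _ (Finset.mem_univ j₀),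
      Finset.sum_congr rfl (g := fun _ => (e i - k - 1) ^ 2) fun j hj => by
        rw [Tools.cellEquiv_apply, hgrid _ i.2 _ j.2
          fun e' => (Finset.mem_erase.1 hj).1 (Subtype.ext e')],
      Finset.sum_const, Finset.card_erase_of_mem (Finset.mem_univ j₀), Finset.card_univ,
      ← Nat.card_eq_fintype_card, Tools.card_rightSet c.hP.selfNormalizing, hW, nsmul_eq_mul,
      Nat.cast_sub hp.one_le, Nat.cast_one, Tools.cellEquiv_apply,
      show ((i : ↥(W₁ ⊔ W₂) →* ℂˣ) * (j₀ : ↥(W₁ ⊔ W₂) →* ℂˣ)) = i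
        from mul_one (i : ↥(W₁ ⊔ W₂) →* ℂˣ)]
  have hbound := Tools.norm_bound c.hη T τ₁ (fun _ => 1) (fun _ _ => one_pos)
    (fun φ hφ ψ hψ => by
      rw [inner_image c hp hK hW hidx hdiv h1 hag (hmT.1 hφ).1 (hmT.1 hφ).2 (hmT.1 hψ).1
        (hmT.1 hψ).2, Nat.cast_one])
    (fun φ hφ ω => image_orth_eta c hp hK hW hidx hdiv h1 hag (hmT.1 hφ).1 (hmT.1 hφ).2 ω)
    (X := Y) (u := u) hcoef he
  have hTpos : 1 ≤ T.card := Finset.card_pos.2 ⟨ζ, hmT.2 hζS⟩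
  have hsumT : ∑ φ ∈ T, u φ ^ 2 = y ^ 2 + ((T.card : ℤ) - 1) * (y + 1) ^ 2 := by
    rw [← Finset.add_sum_erase _ _ (hmT.2 hζS),
      Finset.sum_congr rfl (g := fun _ => (y + 1) ^ 2) fun φ hφ => by
        rw [hu]; simp [(Finset.mem_erase.1 hφ).1],
      Finset.sum_const, nsmul_eq_mul, Finset.card_erase_of_mem (hmT.2 hζS), Nat.cast_sub hTpos,
      Nat.cast_one, hu]
    simp
  have hle : (∑ i : leftSet W₁ W₂, (e i ^ 2 + ((p : ℤ) - 1) * (e i - k - 1) ^ 2)) +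
      (y ^ 2 + ((T.card : ℤ) - 1) * (y + 1) ^ 2) ≤ (Nat.card W₁ : ℤ) + 1 := by
    rw [← hsumω, ← hsumT]
    have h := hbound.1
    rw [hYY] at h
    simp only [Nat.cast_one, div_one] at h
    have : ((∑ ω, e ω ^ 2 + ∑ φ ∈ T, u φ ^ 2 : ℤ) : ℝ) ≤ (((Nat.card W₁ : ℤ) + 1 : ℤ) : ℝ) := by
      push_cast at h ⊢; simpa using h
    exact_mod_cast this
  have hterm : (y = -1 ∨ 2 ≤ |k|) → ∀ i : leftSet W₁ W₂,
      1 ≤ e i ^ 2 + ((p : ℤ) - 1) * (e i - k - 1) ^ 2 := by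
    intro hy' i
    rcases eq_or_ne (e i) 0 with h0 | h0
    · rw [h0]
      have h2 : 0 - k - 1 ≠ 0 := by
        intro h3
        rcases hy' with hy' | hy'
        · rw [hk, hy'] at h3; norm_num at h3
        · rw [show k = -1 by omega] at hy'; norm_num at hy'
      have : 0 < (0 - k - 1) ^ 2 := by positivity
      nlinarith
    · have : 0 < e i ^ 2 := by positivity
      nlinarith [sq_nonneg (e i - k - 1)]
  have hcardL : ((Finset.univ : Finset (leftSet W₁ W₂)).card : ℤ) = Nat.card W₁ := by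
    rw [Finset.card_univ, ← Nat.card_eq_fintype_card, Tools.card_leftSet c.hP.selfNormalizing]
  have hyv : y = -1 := by
    by_contra hne
    have h2 : 1 ≤ |1 + y| := Int.one_le_abs (by omega)
    have hk2 : 2 ≤ |k| := by
      rw [hk, abs_mul, abs_of_pos (by omega : (0 : ℤ) < n)]
      nlinarith
    have hge := Finset.card_nsmul_le_sum (Finset.univ : Finset (leftSet W₁ W₂))
      (fun i : leftSet W₁ W₂ => e i ^ 2 + ((p : ℤ) - 1) * (e i - k - 1) ^ 2) 1 fun i _ => hterm (Or.inr hk2) i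
    rw [nsmul_eq_mul, mul_one, hcardL] at hge
    have hN := sq_le_card_mul c hp hK hW hidx T fun φ hφ hφ1 => hmT.2 ⟨hφ, hφ1⟩
    have h8 : (3 : ℤ) ≤ T.card := by
      by_contra hlt
      have h3 : T.card ≤ 2 := by omega
      have h4 := hN.trans (Nat.mul_le_mul_right _ h3)
      have h6 : Nat.card W₁ ≤ p + 1 := Nat.le_of_dvd (by omega) hdiv
      have h7 : 5 * p ≤ p ^ 2 := by rw [sq]; exact Nat.mul_le_mul_right p hp5
      omega
    have hy2 : 1 ≤ (y + 1) ^ 2 := by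
      have : y + 1 ≠ 0 := by omega
      have : 0 < (y + 1) ^ 2 := by positivity
      omega
    nlinarith [sq_nonneg y]
  have hk0 : k = 0 := by rw [hk, hyv]; ring
  have hei : ∀ i : leftSet W₁ W₂, e i = 1 := by
    intro i
    by_contra hne
    have hi2 : 2 ≤ e i ^ 2 + ((p : ℤ) - 1) * (e i - k - 1) ^ 2 := by
      have : e i - k - 1 ≠ 0 := by omega
      have : 0 < (e i - k - 1) ^ 2 := by positivity
      nlinarith [sq_nonneg (e i)]
    have hlt := Finset.sum_lt_sum (s := (Finset.univ : Finset (leftSet W₁ W₂)))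
      (f := fun _ => (1 : ℤ)) (g := fun i : leftSet W₁ W₂ => e i ^ 2 + ((p : ℤ) - 1) * (e i - k - 1) ^ 2)
      (fun i _ => hterm (Or.inl hyv) i) ⟨i, Finset.mem_univ _, by linarith⟩
    rw [Finset.sum_const, nsmul_eq_mul, mul_one, hcardL] at hlt
    have h1' : y ^ 2 + ((T.card : ℤ) - 1) * (y + 1) ^ 2 = 1 := by rw [hyv]; ring
    linarith
  have hX := hbound.2 (by
    rw [hYY]
    simp only [Nat.cast_one, div_one]
    have h1' : ((∑ ω, e ω ^ 2 + ∑ φ ∈ T, u φ ^ 2 : ℤ) : ℝ) = (Nat.card W₁ : ℝ) + 1 := by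
      rw [hsumω, hsumT, hyv, Finset.sum_congr rfl (g := fun _ => (1 : ℤ)) fun i _ => by
        rw [hei i, hk0]; ring, Finset.sum_const, nsmul_eq_mul, mul_one, hcardL]
      push_cast; ring
    push_cast at h1'
    simp only [Int.cast_sum, Int.cast_pow, Complex.add_re, Complex.natCast_re, Complex.one_re]
    linarith)
  rw [hX, sub_eq_add_neg (colSum η 1)]
  congr 1
  · rw [← (Tools.cellEquiv c.hP.selfNormalizing).sum_comp, Fintype.sum_prod_type,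
      Tools.colSum_eq_sum]
    refine Finset.sum_congr rfl fun i _ => ?_
    rw [Finset.sum_eq_single j₀]
    · rw [Tools.cellEquiv_apply,
        show ((i : ↥(W₁ ⊔ W₂) →* ℂˣ) * (j₀ : ↥(W₁ ⊔ W₂) →* ℂˣ)) = i
          from mul_one (i : ↥(W₁ ⊔ W₂) →* ℂˣ), hei i, Int.cast_one, one_smul]
    · intro j _ hj
      rw [Tools.cellEquiv_apply, hgrid _ i.2 _ j.2 fun e' => hj (Subtype.ext e'), hei i, hk0]
      simp
    · exact fun h => absurd (Finset.mem_univ _) h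
  · rw [Finset.sum_eq_single ζ]
    · simp [hu, hyv]
    · intro φ _ hφ
      simp [hu, hφ, hyv]
    · exact fun h => absurd (hmT.2 hζS) h

/-- The image of `μ_j - d ζ`. -/
theorem tau_col {ζ : M → ℂ} (hζ : ζ ∈ calS M) (hζ1 : ζ 1 = (Nat.card W₁ : ℂ))
    {j : ↥(W₁ ⊔ W₂) →* ℂˣ} (hj : j ∈ rightSet W₁ W₂) (hj1 : j ≠ 1) :
    tau M (colSum μ j - (d : ℂ) • ζ) = (ε : ℂ) • colSum η j - (d : ℂ) • τ₁ ζ := by
  classical
  haveI : Fintype (leftSet W₁ W₂) := Fintype.ofFinite _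
  have hd : (d : ℂ) = (ε : ℂ) + (n : ℂ) * (Nat.card W₁ : ℂ) := by
    have h : ((d : ℤ) : ℂ) = ((ε + n * (Nat.card W₁ : ℤ) : ℤ) : ℂ) := by rw [c.hc.eq]
    push_cast at h; exact h
  have hcard : (Fintype.card (leftSet W₁ W₂) : ℂ) = (Nat.card W₁ : ℂ) := by
    rw [← Tools.card_leftSet c.hP.selfNormalizing, Nat.card_eq_fintype_card]
  have hsplit : colSum μ j - (d : ℂ) • ζ =
      (∑ i : leftSet W₁ W₂, alphaFun μ ζ ε n i j) + (ε : ℂ) • (colSum μ 1 - ζ) := by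
    funext x
    simp only [Pi.add_apply, Pi.sub_apply, Pi.smul_apply, Finset.sum_apply, smul_eq_mul, alphaFun,
      Finset.sum_sub_distrib, Finset.sum_const, Finset.card_univ, nsmul_eq_mul, ← Finset.mul_sum,
      colSum_apply', Pi.mul_apply, Pi.natCast_apply, hcard]
    simp only [show ∀ i : ↥(W₁ ⊔ W₂) →* ℂˣ, i * (1 : ↥(W₁ ⊔ W₂) →* ℂˣ) = i from fun i => mul_one i]
    linear_combination -ζ x * hd
  rw [hsplit, tau_add, tau_sum, tau_smul, tau_beta c hp hK hW hidx hdiv h1 hag hζ hζ1,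
    Finset.sum_congr rfl fun i _ => tau_alpha c hp hK hW hidx hdiv h1 hag hζ hζ1 i.2 hj hj1]
  funext g
  simp only [Pi.add_apply, Pi.sub_apply, Pi.smul_apply, Finset.sum_apply, smul_eq_mul,
    Finset.sum_sub_distrib, Finset.sum_const, Finset.card_univ, nsmul_eq_mul, ← Finset.mul_sum,
    colSum_apply', Pi.mul_apply, Pi.natCast_apply, hcard]
  simp only [show ∀ i : ↥(W₁ ⊔ W₂) →* ℂˣ, i * (1 : ↥(W₁ ⊔ W₂) →* ℂˣ) = i from fun i => mul_one i]
  linear_combination τ₁ ζ g * hd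

end Tau

end Cfsg.Agent.OddChar.TypeP.NoTypeV
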