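import Cfsg.Agent.OddChar.TypeP.NoTypeV.Exact

/-!
# `calS M` is coherent when `M'` is non-abelian of order `p ^ 3`
-/

set_option autoImplicit false
set_option linter.unusedSectionVars false
set_option linter.style.haveILetI false

namespace Cfsg.Agent.OddChar.TypeP.NoTypeV

open Cfsg Subgroup
open Cfsg.Agent.Characters Cfsg.Agent.OddChar.Coherence Cfsg.Agent.OddChar.TypeP.Noncoherent

universe u

variable {G : Type u} [Group G] [Fintype G] {M W₁ U W₂ : Subgroup G} [Fintype M]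
  {η : (↥(W₁ ⊔ W₂) →* ℂˣ) → G → ℂ} {μ : (↥(W₁ ⊔ W₂) →* ℂˣ) → ↥M → ℂ}
  {δ : (↥(W₁ ⊔ W₂) →* ℂˣ) → ℂ} {R : (↥M → ℂ) → Finset (G → ℂ)} {d : ℕ} {ε n : ℤ}

/-- The inner product of two columns of the family. -/
theorem inner_eta_col (hW : IsSelfNormalizingCyclic W₁ W₂) (hη : IsCyclicTIFamily W₁ W₂ η)
    {j k : ↥(W₁ ⊔ W₂) →* ℂˣ} (hj : j ∈ rightSet W₁ W₂) (hk : k ∈ rightSet W₁ W₂)
    [Decidable (j = k)] :
    classInner (colSum η j) (colSum η k) = if j = k then (Nat.card W₁ : ℂ) else 0 := by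
  classical
  haveI : Fintype (leftSet W₁ W₂) := Fintype.ofFinite _
  have hS := CyclicTI.split_of hW
  rw [Tools.colSum_eq_sum, Tools.colSum_eq_sum, classInner_sum_left,
    Finset.sum_congr rfl (g := fun _ => if j = k then (1 : ℂ) else 0) fun a _ => ?_,
    Finset.sum_const, Finset.card_univ, ← Nat.card_eq_fintype_card, Tools.card_leftSet hW,
    nsmul_eq_mul]
  · split_ifs <;> simp
  rw [classInner_sum_right]
  by_cases e : j = k
  · subst e
    rw [if_pos rfl, Finset.sum_eq_single a]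
    · rw [hη.orthonormal, if_pos rfl]
    · intro b _ hb
      rw [hη.orthonormal, if_neg fun e' => hb (Subtype.ext (hS.mul_inj a.2 b.2 hj hj e').1).symm]
    · exact fun h => absurd (Finset.mem_univ _) h
  · rw [if_neg e]
    exact Finset.sum_eq_zero fun b _ => by
      rw [hη.orthonormal, if_neg fun e' => e (hS.mul_inj a.2 b.2 hj hk e').2]

variable (c : Noncoherent.Ctx M W₁ U W₂ η μ δ R d ε n) {p : ℕ}
  (hp : p.Prime) (hK : Nat.card (derivedIn M) = p ^ 3) (hW : Nat.card W₂ = p)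
  (hidx : (commutator ↥(derivedIn M)).index = p ^ 2) (hdiv : Nat.card W₁ ∣ p + 1)
include c hp hK hW hidx hdiv

/-- (10.10), the case `|H| = p ^ 3`: the coherent extension. -/
theorem coherent : IsCoherent (calS M) {1}ᶜ (tau M) := by
  classical
  obtain ⟨ζ, hζ, -, hζ1⟩ := c.exists_zeta
  set S₁ : Set (↥M → ℂ) := {φ | φ ∈ calS M ∧ φ 1 = (Nat.card W₁ : ℂ)} with hS₁
  have hc₁ : ∀ φ ∈ S₁, conjFun φ ∈ S₁ := fun φ hφ =>
    ⟨c.hsys.conj_mem φ hφ.1, by rw [conj_one c.hsys hφ.1, hφ.2]⟩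
  obtain ⟨-, τ₁, h1, hag⟩ := S1517.result S₁ (tau M) R
    (Coherence.subsystem c.hsys (fun _ h => h.1) ⟨ζ, hζ, hζ1⟩ hc₁)
    fun φ hφ ψ hψ => by rw [hφ.2, hψ.2]
  have hrep : ∀ φ : ↥M → ℂ, ∃ j : ↥(W₁ ⊔ W₂) →* ℂˣ, φ ∈ calS M → φ ∉ S₁ →
      j ∈ rightSet W₁ W₂ ∧ j ≠ 1 ∧ φ = colSum μ j := fun φ => by
    by_cases h : φ ∈ calS M ∧ φ ∉ S₁
    · rcases member_cases c hp hK hW hidx h.1 with h' | ⟨j, hj, hj1, e⟩
      · exact absurd ⟨h.1, h'.1⟩ h.2
      · exact ⟨j, fun _ _ => ⟨hj, hj1, e⟩⟩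
    · exact ⟨1, fun a b => absurd ⟨a, b⟩ h⟩
  choose jf hjf using hrep
  set f : (↥M → ℂ) → G → ℂ := fun φ =>
    if φ ∈ S₁ then τ₁ φ else (ε : ℂ) • colSum η (jf φ) with hf
  have hfin := Coherence.finite_mem c.hsys
  set s := hfin.toFinset with hs
  have hms : ∀ {φ}, φ ∈ s ↔ φ ∈ calS M := fun {φ} => hfin.mem_toFinset
  have horth : ∀ a ∈ s, ∀ b ∈ s, a ≠ b → classInner a b = 0 := fun a ha b hb h =>
    c.hsys.orthogonal a (hms.1 ha) b (hms.1 hb) h
  have hne : ∀ a ∈ s, classInner a a ≠ 0 := fun a ha => inner_self_ne c.hsys (hms.1 ha)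
  have hεc : starRingEnd ℂ (ε : ℂ) = (ε : ℂ) := map_intCast _ _
  have hmix : ∀ φ ∈ S₁, ∀ j, classInner (τ₁ φ) (colSum η j) = 0 := fun φ hφ j => by
    haveI : Fintype (leftSet W₁ W₂) := Fintype.ofFinite _
    rw [Tools.colSum_eq_sum, classInner_sum_right]
    exact Finset.sum_eq_zero fun i _ => inner_comm_zero
      (image_orth_eta c hp hK hW hidx hdiv h1 hag hφ.1 hφ.2 _)
  have hgram : ∀ a ∈ s, ∀ b ∈ s, classInner (f a) (f b) = classInner a b := by
    intro a ha b hb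
    by_cases ka : a ∈ S₁ <;> by_cases kb : b ∈ S₁ <;> simp only [hf, ka, kb, if_true, if_false]
    · exact h1.2.2.1 _ (Isometry.mem_zS ka) _ (Isometry.mem_zS kb)
    · rw [classInner_smul_right, hmix a ka, mul_zero,
        c.hsys.orthogonal a (hms.1 ha) b (hms.1 hb) fun e => kb (e ▸ ka)]
    · rw [classInner_smul_left, inner_comm_zero (hmix b kb _), mul_zero,
        c.hsys.orthogonal a (hms.1 ha) b (hms.1 hb) fun e => ka (e ▸ kb)]
    · obtain ⟨hja, -, ea⟩ := hjf a (hms.1 ha) ka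
      obtain ⟨hjb, -, eb⟩ := hjf b (hms.1 hb) kb
      conv_rhs => rw [ea, eb]
      rw [classInner_smul_left, classInner_smul_right, hεc,
        inner_eta_col c.hP.selfNormalizing c.hη hja hjb, c.hμ.inner_col c.hG c.hP hja hjb,
        ← mul_assoc, c.eps_sq, one_mul]
  have hgen : ∀ a ∈ s, IsGeneralizedCharacter G (f a) := by
    intro a ha
    by_cases ka : a ∈ S₁ <;> simp only [hf, ka, if_true, if_false]
    · exact h1.2.2.2 _ (Isometry.mem_zS ka)
    · haveI : Fintype (leftSet W₁ W₂) := Fintype.ofFinite _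
      rw [Tools.colSum_eq_sum]
      exact isGen_intSmul (isGen_sum _ _ fun i _ => c.eta_gen _) ε
  have hiso := extend_isometry horth hne hgram hgen
  rw [show (s : Set (↥M → ℂ)) = calS M from hfin.coe_toFinset] at hiso
  refine ⟨Coherence.exists_nonzero c.hsys subset_rfl c.hsys.nonempty c.hsys.conj_mem,
    extend s f, hiso, fun α hα => ?_⟩
  -- compare on the generators
  set q : ℂ := (Nat.card W₁ : ℂ) with hq
  have hq0 : q ≠ 0 := Nat.cast_ne_zero.2 Nat.card_pos.ne'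
  have hkey : ∀ β ∈ zspan (calS M), extend s f β =
      tau M (β - (β 1 / q) • ζ) + (β 1 / q) • τ₁ ζ := by
    intro β hβ
    refine Submodule.span_induction (fun φ hφ => ?_) ?_ ?_ ?_ hβ
    · rw [extend_apply horth hne (hms.2 hφ)]
      by_cases k : φ ∈ S₁
      · have hm : φ - ζ ∈ zspanOn S₁ {1}ᶜ := Isometry.mem_zspanOn_compl_one
          (Submodule.sub_mem _ (Isometry.mem_zS k) (Isometry.mem_zS ⟨hζ, hζ1⟩))
          (by rw [Pi.sub_apply, k.2, hζ1, sub_self])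
        simp only [hf, k, if_true]
        rw [k.2, div_self hq0, one_smul, one_smul, ← hag _ hm,
          Isometry.map_sub' (M := Isometry.zS S₁) h1 (Isometry.mem_zS k)
            (Isometry.mem_zS ⟨hζ, hζ1⟩), sub_add_cancel]
      · obtain ⟨hj, hj1, e⟩ := hjf φ hφ k
        simp only [hf, k, if_false]
        conv_rhs => rw [e]
        rw [c.col_one hj hj1, mul_div_cancel_right₀ _ hq0,
          tau_col c hp hK hW hidx hdiv h1 hag hζ hζ1 hj hj1, sub_add_cancel]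
    · rw [map_zero, show (0 : ↥M → ℂ) 1 = 0 from rfl, zero_div, zero_smul, zero_smul, sub_zero,
        add_zero, ← zero_smul ℂ (0 : ↥M → ℂ), tau_smul, zero_smul]
    · intro a b _ _ ha hb
      rw [map_add, ha, hb, Pi.add_apply, add_div, add_smul, add_smul,
        show a + b - ((a 1 / q) • ζ + (b 1 / q) • ζ) =
          (a - (a 1 / q) • ζ) + (b - (b 1 / q) • ζ) by abel, tau_add]
      abel
    · intro k a _ ha
      rw [← Int.cast_smul_eq_zsmul ℂ k a, map_smul, ha, Pi.smul_apply, smul_eq_mul, mul_div_assoc,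
        mul_smul, mul_smul, ← smul_sub, tau_smul, smul_add]
  have h0 : α 1 = 0 := Isometry.apply_one_eq_zero hα
  rw [hkey α hα.1, h0, zero_div, zero_smul, zero_smul, sub_zero, add_zero]

end Cfsg.Agent.OddChar.TypeP.NoTypeV
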